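import Groth.Agent.GeomRedAt.Scheme
import Groth.Agent.GeomFib.OpenCriterion
import Groth.Agent.GrpBasic.ReducedNhd
import Groth.Agent.FlatSpread.Model
import Groth.Agent.Assoc.Reduced

/-!
# Openness of the locus of points with geometrically reduced fibre
-/

set_option autoImplicit false
set_option linter.style.haveILetI false
set_option linter.unusedSectionVars false

universe u

open CategoryTheory AlgebraicGeometry Limits TopologicalSpace TensorProduct

namespace Groth.Agent.GeomRedAt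

variable {X Y : Scheme.{u}}

/-- Over a perfect field a point with reduced local ring is a point of geometric reducedness. -/
theorem gr_of_perfect {Ω : Type u} [Field Ω] [PerfectField Ω] (f : X ⟶ Spec (CommRingCat.of Ω)) (x : X)
    [_root_.IsReduced (X.presheaf.stalk x)] : GR f x := by
  intro K _ u p hp
  let j := X.fromSpecStalk x
  let m : pullback (j ≫ f) u ⟶ pullback f u := pullback.map (j ≫ f) u f u j (𝟙 _) (𝟙 _) (by simp) (by simp)
  have hm : IsPullback m (pullback.fst (j ≫ f) u) (pullback.fst f u) j :=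
    (IsPullback.of_bot (by rw [pullback.lift_snd, Category.comp_id]; exact IsPullback.of_hasPullback (j ≫ f) u)
      (by rw [pullback.lift_fst]) (IsPullback.of_hasPullback f u)).flip
  have : Flat j := GrpField.flat_fromSpecStalk x
  have : Flat m := MorphismProperty.of_isPullback hm.flip ‹Flat j›
  obtain ⟨q', hq', -⟩ := Scheme.Pullback.exists_preimage_pullback (f := pullback.fst f u) (g := j) p
    (IsLocalRing.closedPoint (X.presheaf.stalk x)) (hp.trans Scheme.fromSpecStalk_closedPoint.symm)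
  obtain ⟨q, rfl⟩ : ∃ q, hm.isoPullback.hom q = q' :=
    ⟨hm.isoPullback.inv q', by rw [← Scheme.Hom.comp_apply, hm.isoPullback.inv_hom_id]; rfl⟩
  rw [← Scheme.Hom.comp_apply hm.isoPullback.hom, IsPullback.isoPullback_hom_fst] at hq'
  have : AlgebraicGeometry.IsReduced (Spec (X.presheaf.stalk x)) :=
    (affine_isReduced_iff (X.presheaf.stalk x)).2 inferInstance
  have : AlgebraicGeometry.IsReduced (Spec (CommRingCat.of K)) := inferInstance
  have : AlgebraicGeometry.IsReduced (pullback (j ≫ f) u) := Assoc.isReduced_pullback Ω (j ≫ f) u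
  rw [← hq']
  exact isReduced_stalk_of_flat m q

/-- A point with reduced local ring over a perfect field witnesses geometric reducedness below it. -/
theorem gr_of_point {Ω : Type u} [Field Ω] [PerfectField Ω] (f : X ⟶ Y) (v : Spec (CommRingCat.of Ω) ⟶ Y)
    (p : ↥(pullback f v)) [_root_.IsReduced ((pullback f v).presheaf.stalk p)] : GR f (pullback.fst f v p) :=
  (gr_baseChange_iff (IsPullback.of_hasPullback f v) p).mp (gr_of_perfect (pullback.snd f v) p)

/-- A fibre is geometrically reduced exactly when it is so at all its points. -/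
theorem geometricallyReduced_fiber_iff_forall (f : X ⟶ Y) (y : Y) :
    GeometricallyReduced (f.fiberToSpecResidueField y) ↔ ∀ x, f x = y → GR f x := by
  constructor
  · intro h x hx
    subst hx
    refine (isGeomReducedAt_iff f x).mp fun K iK iA x' _ ↦ ?_
    letI : Algebra (Y.residueField (f.base x)) K := iA
    have : AlgebraicGeometry.IsReduced (FBase.bc (k := Y.residueField (f.base x)) (f.fiberToSpecResidueField (f.base x)) K) :=
      h.geometrically_isReduced _ (pullback.fst _ _) (pullback.snd _ _) (.of_hasPullback _ _)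
    exact @AlgebraicGeometry.isReduced_stalk_of_isReduced _ this x'
  · intro h
    rw [GeomRedSpread.geometricallyReduced_fiber_iff]
    have : ∀ p : ↥(pullback f (GeomRedSpread.geoPt y)),
        _root_.IsReduced ((pullback f (GeomRedSpread.geoPt y)).presheaf.stalk p) := fun p ↦ by
      refine h (pullback.fst f (GeomRedSpread.geoPt y) p) ?_ _ _ p rfl
      rw [← Scheme.Hom.comp_apply, pullback.condition, Scheme.Hom.comp_apply]
      exact GeomRedSpread.geoPt_apply y _
    exact isReduced_of_isReduced_stalk _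

/-- Geometric reducedness of the fibre at a point persists near it on its closure. -/
theorem exists_open_forall_gr (f : X ⟶ Y) [LocallyOfFiniteType f] (η : X) (h : GR f η) :
    ∃ O : X.Opens, η ∈ O ∧ ∀ z ∈ O, η ⤳ z → GR f z := by
  obtain ⟨y, hy⟩ : ∃ y, f η = y := ⟨_, rfl⟩
  obtain ⟨_, ⟨V, hV, rfl⟩, hyV, -⟩ := Y.isBasis_affineOpens.exists_subset_of_mem_open
    (Set.mem_univ y) isOpen_univ
  let Ω := AlgebraicClosure (Y.residueField y)
  let v := Spec.map (CommRingCat.ofHom (algebraMap (Y.residueField y) Ω))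
  let P := pullback (f.fiberToSpecResidueField y) v
  let π : P ⟶ f.fiber y := pullback.fst _ _
  let e : P ≅ pullback f (GeomRedSpread.geoPt y) := pullbackLeftPullbackSndIso f (Y.fromSpecResidueField y) v
  have he : e.hom ≫ pullback.fst _ _ = π ≫ f.fiberι y := pullbackLeftPullbackSndIso_hom_fst _ _ _
  have : IsIntegralHom v := (IsIntegralHom.SpecMap_iff).mpr (algebraMap_isIntegral_iff.mpr inferInstance)
  have : IsIntegralHom π := MorphismProperty.pullback_fst _ _ inferInstance
  have : LocallyOfFiniteType (pullback.snd (f.fiberToSpecResidueField y) v) :=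
    MorphismProperty.pullback_snd _ _ (inferInstanceAs (LocallyOfFiniteType (pullback.snd f (Y.fromSpecResidueField y))))
  have : IsLocallyNoetherian P := LocallyOfFiniteType.isLocallyNoetherian (pullback.snd (f.fiberToSpecResidueField y) v)
  let Z : Set P := {p | ¬ _root_.IsReduced (P.presheaf.stalk p)}
  have hZ : IsClosed Z := isOpen_compl_iff.mp (isOpen_iff_forall_mem_open.mpr fun p hp ↦ by
    have : _root_.IsReduced (P.presheaf.stalk p) := not_not.mp hp
    obtain ⟨U, hpU, hU⟩ := GrpBasic.exists_isReduced_nhd p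
    exact ⟨U, fun q hq hqZ ↦ hqZ ((isReduced_stalk_openImmersion_iff U.ι ⟨q, hq⟩).mpr inferInstance), U.2, hpU⟩)
  obtain ⟨C, hC, hCeq⟩ := (f.fiberι y).isEmbedding.isInducing.isClosed_iff.mp (π.isClosedMap _ hZ)
  have hfib : ∀ p : P, π p ∈ (π '' Z) ∨ _root_.IsReduced (P.presheaf.stalk p) := fun p ↦
    (em (_root_.IsReduced (P.presheaf.stalk p))).elim .inr fun hp ↦ .inl ⟨p, hp, rfl⟩
  have hηC : η ∉ C := fun hη ↦ by
    obtain ⟨a, ha⟩ : ∃ a, f.fiberι y a = η := (Scheme.Hom.range_fiberι f y).ge (show η ∈ f ⁻¹' {y} from hy)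
    obtain ⟨p, hp, hpa⟩ := hCeq.le (show a ∈ f.fiberι y ⁻¹' C by rw [Set.mem_preimage, ha]; exact hη)
    refine hp ((isReduced_stalk_openImmersion_iff e.hom p).mp (h Ω _ (e.hom p) ?_))
    rw [← Scheme.Hom.comp_apply, he, Scheme.Hom.comp_apply, hpa, ha]
  obtain ⟨_, ⟨W, hW, rfl⟩, hηW, hWsub⟩ := X.isBasis_affineOpens.exists_subset_of_mem_open
    (show η ∈ Cᶜ ∩ f ⁻¹' (V : Set Y) from ⟨hηC, show f η ∈ V from hy.symm ▸ hyV⟩) (hC.isOpen_compl.inter (V.2.preimage f.continuous))
  have hWV : W ≤ f ⁻¹ᵁ V := fun w hw ↦ (hWsub hw).2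
  change X.Opens at W
  change Y.Opens at V
  have : IsAffine W.toScheme := hW
  have : IsAffine V.toScheme := hV
  let g : W.toScheme ⟶ V.toScheme := f.resLE V W hWV
  have hg : g ≫ V.ι = W.ι ≫ f := Scheme.Hom.resLE_comp_ι _ _
  have : LocallyOfFiniteType g := IsZariskiLocalAtSource.resLE _ ‹_›
  have htr : ∀ w : W, GR g w ↔ GR f (W.ι w) := fun w ↦ by
    rw [← gr_source_iff, ← hg, gr_target_iff]
  have hgy : GeometricallyReduced (g.fiberToSpecResidueField ⟨y, hyV⟩) := by
    refine (geometricallyReduced_fiber_iff_forall g ⟨y, hyV⟩).mpr fun w hw ↦ (htr w).mpr ?_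
    have hwy : f w.1 = y := by
      rw [show f w.1 = (W.ι ≫ f) w from rfl, ← hg, Scheme.Hom.comp_apply, hw]; rfl
    obtain ⟨a, ha⟩ : ∃ a, f.fiberι y a = W.ι w := (Scheme.Hom.range_fiberι f y).ge hwy
    obtain ⟨p, hpa, -⟩ := Scheme.Pullback.exists_preimage_pullback (f := f.fiberToSpecResidueField y) (g := v) a
      (IsLocalRing.closedPoint Ω) (Subsingleton.elim _ _)
    have hpw : pullback.fst f (GeomRedSpread.geoPt y) (e.hom p) = W.ι w := by
      rw [← Scheme.Hom.comp_apply, he, Scheme.Hom.comp_apply, show π p = a from hpa, ha]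
    have : _root_.IsReduced ((pullback f (GeomRedSpread.geoPt y)).presheaf.stalk (e.hom p)) :=
      (isReduced_stalk_openImmersion_iff e.hom p).mpr ((hfib p).resolve_left fun hmem ↦ by
        rw [← hCeq, Set.mem_preimage, show π p = a from hpa, ha] at hmem
        exact (hWsub w.2).1 hmem)
    rw [← hpw]
    exact gr_of_point f (GeomRedSpread.geoPt y) (e.hom p)
  obtain ⟨O, hyO, hO⟩ := GeomRedSpread.exists_open_geometricallyReduced_iff g ⟨y, hyV⟩
  refine ⟨W.ι ''ᵁ (g ⁻¹ᵁ O), ?_, ?_⟩
  · refine ⟨⟨η, hηW⟩, show g ⟨η, hηW⟩ ∈ O from ?_, rfl⟩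
    convert hyO using 1
    exact Subtype.ext ((congr($(hg).base ⟨η, hηW⟩) : _).trans hy)
  · rintro _ ⟨w, hw, rfl⟩ hs
    refine (htr w).mp ((geometricallyReduced_fiber_iff_forall g (g w)).mp ((hO (g w) hw ?_).mpr hgy) w rfl)
    refine V.ι.isOpenEmbedding.isInducing.specializes_iff.mp ?_
    show y ⤳ V.ι (g w)
    rw [show V.ι (g w) = f (W.ι w) from congr($(hg).base w), ← hy]
    exact hs.map f.continuous

theorem isOpen_setOf_gr_noetherian [IsLocallyNoetherian Y] (f : X ⟶ Y) [Flat f] [LocallyOfFiniteType f] :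
    IsOpen {x : X | GR f x} := by
  have : IsLocallyNoetherian X := LocallyOfFiniteType.isLocallyNoetherian f
  exact isOpen_iff_mem_nhds.mpr fun x hx ↦ GeomFib.mem_nhds_of_forall_generization fun η hη ↦
    exists_open_forall_gr f η (gr_of_specializes f hη hx)

/-- For a flat morphism locally of finite presentation the points at which the fibre is geometrically reduced
form an open set. -/
theorem isOpen_setOf_gr (f : X ⟶ Y) [Flat f] [LocallyOfFinitePresentation f] : IsOpen {x : X | GR f x} := by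
  refine isOpen_iff_mem_nhds.mpr fun x hx ↦ ?_
  obtain ⟨_, ⟨V, hV, rfl⟩, hxV, -⟩ := Y.isBasis_affineOpens.exists_subset_of_mem_open
    (Set.mem_univ (f x)) isOpen_univ
  obtain ⟨_, ⟨U, hU, rfl⟩, hxU, hUV⟩ := X.isBasis_affineOpens.exists_subset_of_mem_open
    (show x ∈ (f ⁻¹ᵁ V).1 from hxV) (f ⁻¹ᵁ V).2
  change X.Opens at U
  change Y.Opens at V
  let φ := f.appLE V U hUV
  have hcomp : Spec.map φ ≫ hV.fromSpec = hU.fromSpec ≫ f := hV.SpecMap_appLE_fromSpec f hU hUV
  letI : Algebra Γ(Y, V) Γ(X, U) := φ.hom.toAlgebra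
  have : Module.Flat Γ(Y, V) Γ(X, U) := Flat.flat_appLE f hV hU hUV
  have : Algebra.FinitePresentation Γ(Y, V) Γ(X, U) :=
    HasRingHomProperty.appLE @LocallyOfFinitePresentation f ‹_› ⟨V, hV⟩ ⟨U, hU⟩ hUV
  obtain ⟨R₀, _, _, S₀, _, _, _, _, _, _, hR₀, hS₀, hflat, hpo⟩ :=
    FlatSpread.exists_model_algebra Γ(Y, V) Γ(X, U)
  have : IsNoetherianRing R₀ := Algebra.FiniteType.isNoetherianRing ℤ R₀
  let g₀ := Spec.map (CommRingCat.ofHom (algebraMap R₀ S₀))
  have : Flat g₀ := (HasRingHomProperty.Spec_iff (P := @Flat)).mpr (RingHom.flat_algebraMap_iff.mpr hflat)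
  have : LocallyOfFiniteType g₀ :=
    (HasRingHomProperty.Spec_iff (P := @LocallyOfFiniteType)).mpr (RingHom.finiteType_algebraMap.mpr hS₀)
  have hsq : IsPullback (Spec.map (CommRingCat.ofHom (algebraMap S₀ Γ(X, U)))) (Spec.map φ) g₀
      (Spec.map (CommRingCat.ofHom (algebraMap R₀ Γ(Y, V)))) :=
    (isPullback_SpecMap_of_isPushout _ _ _ _ (CommRingCat.isPushout_of_isPushout R₀ Γ(Y, V) S₀ Γ(X, U))).flip
  have heq : hU.fromSpec '' ((Spec.map (CommRingCat.ofHom (algebraMap S₀ Γ(X, U)))) ⁻¹' {z | GR g₀ z}) ⊆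
      {x | GR f x} := by
    rintro _ ⟨q, hq, rfl⟩
    show GR f _
    rw [← gr_source_iff, ← hcomp, gr_target_iff]
    exact (gr_baseChange_iff hsq q).mpr hq
  refine Filter.mem_of_superset ((hU.fromSpec.isOpenEmbedding.isOpenMap _
    ((isOpen_setOf_gr_noetherian g₀).preimage (Scheme.Hom.continuous _))).mem_nhds ?_) heq
  refine ⟨hU.primeIdealOf ⟨x, hxU⟩, (gr_baseChange_iff hsq _).mp ?_, hU.fromSpec_primeIdealOf ⟨x, hxU⟩⟩
  rw [← gr_target_iff (Spec.map φ) hV.fromSpec, hcomp, gr_source_iff, hU.fromSpec_primeIdealOf ⟨x, hxU⟩]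
  exact hx

end Groth.Agent.GeomRedAt
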