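import Groth.Agent.S0403
import Groth.Agent.S0404
import Mathlib

/-!
# Zero-dimensional fibres of proper flat morphisms
-/

set_option autoImplicit false

universe u

open CategoryTheory AlgebraicGeometry Limits TopologicalSpace

namespace Groth.Agent.DimZero

/-- A morphism of finite type with zero-dimensional fibres is locally quasi-finite. -/
theorem locallyQuasiFinite_of_dim {X Y : Scheme.{u}} (f : X ⟶ Y) [LocallyOfFiniteType f]
    (h : ∀ y, topologicalKrullDim ↥(f.fiber y) ≤ 0) : LocallyQuasiFinite f := by
  refine locallyQuasiFinite_iff_isDiscrete_preimage_singleton.mpr fun y ↦ ?_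
  have : LocallyOfFiniteType (f.fiberToSpecResidueField y) :=
    inferInstanceAs (LocallyOfFiniteType (pullback.snd f (Y.fromSpecResidueField _)))
  have : IsLocallyNoetherian (f.fiber y) :=
    LocallyOfFiniteType.isLocallyNoetherian (f.fiberToSpecResidueField y)
  have : IsLocallyArtinian (f.fiber y) := IsLocallyArtinian.of_topologicalKrullDim_le_zero (h y)
  exact ⟨(f.fiberHomeo y).discreteTopology⟩

theorem isFinite_of_dim {X Y : Scheme.{u}} (f : X ⟶ Y) [IsProper f]
    (h : ∀ y, topologicalKrullDim ↥(f.fiber y) ≤ 0) : IsFinite f := by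
  have := locallyQuasiFinite_of_dim f h
  exact IsFinite.of_isProper_of_locallyQuasiFinite f

/-- The dimension of a fibre of a finite morphism is at most zero. -/
theorem dim_le_zero_of_finite {X Y : Scheme.{u}} (f : X ⟶ Y) [LocallyQuasiFinite f] (y : Y) :
    topologicalKrullDim ↥(f.fiber y) ≤ 0 := by
  have h := f.isDiscrete_preimage_singleton y
  have : DiscreteTopology ↥(f ⁻¹' {y}) := h.to_subtype
  have : DiscreteTopology ↥(f.fiber y) := (f.fiberHomeo y).symm.discreteTopology
  exact topologicalKrullDim_zero_of_discreteTopology _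

end Groth.Agent.DimZero
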