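import Mathlib
import Groth.Agent.DvrDom.Basic

/-!
# Geometric reducedness at a prime passes to generisations in a flat algebra
-/

set_option autoImplicit false
set_option linter.style.haveILetI false
set_option linter.unusedSectionVars false

universe u

open TensorProduct IsLocalRing

namespace Groth.Agent.GeomRedAt

/-- An algebra is geometrically reduced at a prime over its image: all localisations of its base changes
to fields over that image, at primes above it, are reduced. -/
def RingGR (A : Type u) {B : Type u} [CommRing A] [CommRing B] [Algebra A B] (Q : Ideal B) : Prop :=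
  ∀ (k : Type u) [Field k] [Algebra A k] (P : Ideal (B ⊗[A] k)) [P.IsPrime],
    P.comap (algebraMap B (B ⊗[A] k)) = Q → _root_.IsReduced (Localization.AtPrime P)

/-- A valuation subring induced by a discrete one on an extension has principal ideals. -/
theorem isPrincipalIdealRing_comap {K L : Type u} [Field K] [Field L] (φ : K →+* L) (W : ValuationSubring L)
    [IsDiscreteValuationRing W] : IsPrincipalIdealRing (W.comap φ) := by
  classical
  refine ⟨fun I ↦ ?_⟩
  by_cases hI : I = ⊥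
  · exact ⟨0, by rw [hI, Submodule.span_zero_singleton]⟩
  obtain ⟨x₀, hx₀, hx₀'⟩ := Submodule.exists_mem_ne_zero_of_ne_bot hI
  let ι : W.comap φ →+* W := φ.restrict (W.comap φ).toSubring W.toSubring fun _ h ↦ h
  have hι : ∀ x, x ≠ 0 → IsDiscreteValuationRing.addVal W (ι x) ≠ ⊤ := fun x hx h ↦ by
    rw [IsDiscreteValuationRing.addVal_eq_top_iff] at h
    exact hx (Subtype.ext (φ.injective ((congrArg Subtype.val h).trans (map_zero φ).symm)))
  let S : Set ℕ∞ := (fun x ↦ IsDiscreteValuationRing.addVal W (ι x)) '' {x | x ∈ I ∧ x ≠ 0}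
  obtain ⟨x, ⟨hxI, hx⟩, hmin⟩ := wellFounded_lt.has_min S ⟨_, x₀, ⟨hx₀, hx₀'⟩, rfl⟩ |>.elim
    fun m ⟨⟨x, hx, hxm⟩, hm⟩ ↦ (⟨x, hx, fun y hy ↦ by dsimp only at hxm; rw [hxm]; exact hm _ ⟨y, hy, rfl⟩⟩ :
      ∃ x ∈ {x | x ∈ I ∧ x ≠ 0}, ∀ y ∈ {x | x ∈ I ∧ x ≠ 0},
        ¬ IsDiscreteValuationRing.addVal W (ι y) < IsDiscreteValuationRing.addVal W (ι x))
  refine ⟨x, le_antisymm (fun y hy ↦ ?_) ((Submodule.span_singleton_le_iff_mem _ _).mpr hxI)⟩
  by_cases hy0 : y = 0
  · rw [hy0]; exact zero_mem _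
  obtain ⟨w, hw⟩ := IsDiscreteValuationRing.addVal_le_iff_dvd.mp (not_lt.mp (hmin y ⟨hy, hy0⟩))
  have hx0 : (x : K) ≠ 0 := fun h ↦ hx (Subtype.ext h)
  have hq : (y : K) / x ∈ W.comap φ := by
    show φ ((y : K) / x) ∈ W
    rw [map_div₀, show φ (y : K) = φ (x : K) * (w : L) from congrArg Subtype.val hw,
      mul_div_cancel_left₀ _ ((map_ne_zero φ).mpr hx0)]
    exact w.2
  refine Submodule.mem_span_singleton.mpr ⟨⟨_, hq⟩, Subtype.ext ?_⟩
  show (y : K) / x * x = y
  exact div_mul_cancel₀ _ hx0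

/-- A Noetherian local ring, reduced modulo a regular element of its maximal ideal or modulo zero, is reduced. -/
theorem isReduced_of_quotient {T : Type u} [CommRing T] [IsLocalRing T] [IsNoetherianRing T] (π : T)
    (hπ : π ∈ maximalIdeal T) (hreg : π = 0 ∨ IsSMulRegular T π) (h : _root_.IsReduced (T ⧸ Ideal.span ({π} : Set T))) :
    _root_.IsReduced T := by
  rcases hreg with rfl | hreg
  · refine isReduced_of_injective (Ideal.Quotient.mk (Ideal.span ({(0 : T)} : Set T))) fun a b hab ↦ ?_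
    rw [Ideal.Quotient.eq, Ideal.span_singleton_eq_bot.mpr rfl, Ideal.mem_bot] at hab
    exact sub_eq_zero.mp hab
  refine ⟨fun b hb ↦ ?_⟩
  have key : ∀ (n : ℕ) (b : T), IsNilpotent b → ∃ c, IsNilpotent c ∧ b = π ^ n * c := by
    intro n
    induction n with
    | zero => exact fun b hb ↦ ⟨b, hb, by simp⟩
    | succ n ih =>
      intro b hb
      obtain ⟨c, hc, rfl⟩ := ih b hb
      have h0 := h.eq_zero _ (hc.map (Ideal.Quotient.mk (Ideal.span ({π} : Set T))))
      rw [Ideal.Quotient.eq_zero_iff_mem, Ideal.mem_span_singleton] at h0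
      obtain ⟨d, rfl⟩ := h0
      obtain ⟨m, hm⟩ := hc
      refine ⟨d, ⟨m, (hreg.pow m) ?_⟩, by ring⟩
      show π ^ m * d ^ m = π ^ m * 0
      rw [← mul_pow, hm, mul_zero]
  have hmem : b ∈ ⨅ n : ℕ, (maximalIdeal T) ^ n := by
    rw [Ideal.mem_iInf]
    intro n
    obtain ⟨c, -, rfl⟩ := key n b hb
    exact Ideal.mul_mem_right _ _ (Ideal.pow_mem_pow hπ n)
  rwa [Ideal.iInf_pow_eq_bot_of_isLocalRing _ (maximalIdeal.isMaximal T).ne_top, Ideal.mem_bot] at hmem

theorem isReduced_atPrime_of_le {R : Type u} [CommRing R] {P Q : Ideal R} [P.IsPrime] [Q.IsPrime] (h : P ≤ Q)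
    [_root_.IsReduced (Localization.AtPrime Q)] : _root_.IsReduced (Localization.AtPrime P) := by
  letI := IsLocalization.localizationAlgebraOfSubmonoidLe (Localization.AtPrime Q) (Localization.AtPrime P)
    Q.primeCompl P.primeCompl (fun x hx hxP ↦ hx (h hxP))
  haveI : IsScalarTower R (Localization.AtPrime Q) (Localization.AtPrime P) :=
    IsLocalization.localization_isScalarTower_of_submonoid_le _ _ _ _ _
  haveI := IsLocalization.isLocalization_of_submonoid_le (Localization.AtPrime Q) (Localization.AtPrime P)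
    Q.primeCompl P.primeCompl (fun x hx hxP ↦ hx (h hxP))
  exact isReduced_localizationPreserves (P.primeCompl.map (algebraMap R (Localization.AtPrime Q))) _ inferInstance

/-- Reducedness of the localisations over finitely generated subfields suffices. -/
theorem isReduced_of_forall_fg {A B : Type u} [CommRing A] [CommRing B] [Algebra A B] {K : Type u} [Field K]
    [Algebra A K] (P : Ideal (B ⊗[A] K)) [P.IsPrime]
    (h : ∀ (K₀ : Type u) [Field K₀] [Algebra A K₀] (ψ : K₀ →ₐ[A] K) (t : Set K₀), t.Finite →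
      Subfield.closure (Set.range (algebraMap A K₀) ∪ t) = ⊤ →
      _root_.IsReduced (Localization.AtPrime (P.comap (Algebra.TensorProduct.map (AlgHom.id A B) ψ)))) :
    _root_.IsReduced (Localization.AtPrime P) := by
  classical
  refine ⟨fun z hz ↦ ?_⟩
  obtain ⟨b, s, rfl⟩ := IsLocalization.exists_mk'_eq P.primeCompl z
  rw [IsLocalization.mk'_eq_zero_iff]
  obtain ⟨m, hm⟩ := hz
  rw [← IsLocalization.mk'_pow, IsLocalization.mk'_eq_zero_iff] at hm
  obtain ⟨u, hu⟩ := hm
  have hnil : ((u : B ⊗[A] K) * b) ^ (m + 1) = 0 := by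
    rw [mul_pow, pow_succ (u : B ⊗[A] K), pow_succ b,
      show (u : B ⊗[A] K) ^ m * u * (b ^ m * b) = (u : B ⊗[A] K) ^ m * b * ((u : B ⊗[A] K) * b ^ m) by ring, hu, mul_zero]
  obtain ⟨S, hS⟩ := TensorProduct.exists_finset ((u : B ⊗[A] K) * b)
  let F : Subfield K := Subfield.closure (Set.range (algebraMap A K) ∪ ((S.image Prod.snd : Finset K) : Set K))
  letI : Algebra A F := ((algebraMap A K).codRestrict F fun a ↦ Subfield.subset_closure (.inl ⟨a, rfl⟩)).toAlgebra
  let ψ : F →ₐ[A] K := { F.subtype with commutes' := fun _ ↦ rfl }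
  let t : Set F := F.subtype ⁻¹' ((S.image Prod.snd : Finset K) : Set K)
  have ht : t.Finite := (S.image Prod.snd).finite_toSet.preimage (Set.injOn_of_injective Subtype.val_injective)
  have htop : Subfield.closure (Set.range (algebraMap A F) ∪ t) = ⊤ := by
    have : F ≤ (Subfield.closure (Set.range (algebraMap A F) ∪ t)).map F.subtype := Subfield.closure_le.mpr (by
      rintro x (⟨a, rfl⟩ | hx)
      · exact ⟨algebraMap A F a, Subfield.subset_closure (.inl ⟨a, rfl⟩), rfl⟩
      · exact ⟨⟨x, Subfield.subset_closure (.inr hx)⟩, Subfield.subset_closure (.inr hx), rfl⟩)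
    refine top_le_iff.mp fun x _ ↦ ?_
    obtain ⟨y, hy, hyx⟩ := this x.2
    rwa [← Subtype.ext hyx]
  let Φ := Algebra.TensorProduct.map (AlgHom.id A B) ψ
  have hΦ : Function.Injective Φ := by
    haveI : IsScalarTower A F K := .of_algebraMap_eq fun _ ↦ rfl
    obtain ⟨r, hr⟩ := (Algebra.linearMap F K).exists_leftInverse_of_injective
      (LinearMap.ker_eq_bot.mpr F.subtype.injective)
    intro x y hxy
    have h1 : ∀ w, (r.restrictScalars A).lTensor B (Φ w) = w := fun w ↦ by
      induction w using TensorProduct.induction_on with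
      | zero => simp
      | tmul p q =>
        show p ⊗ₜ[A] r (algebraMap F K q) = p ⊗ₜ[A] q
        rw [show r (algebraMap F K q) = q from LinearMap.congr_fun hr q]
      | add p q hp hq => rw [map_add, map_add, hp, hq]
    rw [← h1 x, ← h1 y, hxy]
  obtain ⟨w, hw⟩ : ∃ w, Φ w = (u : B ⊗[A] K) * b := by
    refine ⟨∑ p ∈ S.attach, p.1.1 ⊗ₜ[A] (⟨p.1.2, Subfield.subset_closure (.inr (Finset.mem_coe.mpr
      (Finset.mem_image_of_mem _ p.2)))⟩ : F), ?_⟩
    rw [map_sum, hS, ← Finset.sum_attach S]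
    exact Finset.sum_congr rfl fun p _ ↦ rfl
  have := h F ψ t ht htop
  have hw0 : algebraMap _ (Localization.AtPrime (P.comap Φ)) w = 0 :=
    IsReduced.eq_zero _ (IsNilpotent.map ⟨m + 1, hΦ (by rw [map_pow, hw, hnil, map_zero])⟩ _)
  obtain ⟨v, hv⟩ := (IsLocalization.map_eq_zero_iff (P.comap Φ).primeCompl _ w).mp hw0
  refine ⟨⟨Φ v.1, v.2⟩ * u, ?_⟩
  show Φ v.1 * u * b = 0
  rw [mul_assoc, ← hw, ← map_mul, hv, map_zero]

/-- An injective map after which every element is a quotient by a unit in the image preserves reducedness of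
local rings. -/
theorem isReduced_of_surjective_units {R S F : Type u} [CommRing R] [CommRing S] [FunLike F R S] [RingHomClass F R S]
    (ν : F) (hν : Function.Injective ν) (P : Ideal S) [P.IsPrime] [_root_.IsReduced (Localization.AtPrime (P.comap ν))]
    (h : ∀ y : S, ∃ x d, IsUnit (ν d) ∧ ν x = y * ν d) : _root_.IsReduced (Localization.AtPrime P) := by
  have hc : P.comap ν = P.comap (ν : R →+* S) := rfl
  refine ⟨fun z hz ↦ ?_⟩
  obtain ⟨y, s, rfl⟩ := IsLocalization.exists_mk'_eq P.primeCompl z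
  obtain ⟨x, d, hd, hx⟩ := h y
  have hdP : d ∉ P.comap ν := fun hm ↦ ‹P.IsPrime›.ne_top (Ideal.eq_top_of_isUnit_mem _ hm hd)
  obtain ⟨m, hm⟩ := hz
  rw [← IsLocalization.mk'_pow, IsLocalization.mk'_eq_zero_iff] at hm
  obtain ⟨u, hu⟩ := hm
  obtain ⟨u', e, he, hu'⟩ := h u
  have hu'P : u' ∉ P.comap ν := fun hm' ↦ by
    have h1 : (u : S) * ν e ∈ P := hu' ▸ hm'
    rcases ‹P.IsPrime›.mem_or_mem h1 with h2 | h2
    · exact u.2 h2
    · exact ‹P.IsPrime›.ne_top (Ideal.eq_top_of_isUnit_mem _ h2 he)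
  have h0 : ν (u' * x ^ m) = 0 := by
    rw [map_mul, map_pow, hu', hx, mul_pow, show (u : S) * ν e * (y ^ m * ν d ^ m) = (u : S) * y ^ m * (ν e * ν d ^ m) by ring,
      hu, zero_mul]
  let φ : Localization.AtPrime (P.comap ν) →+* Localization.AtPrime P :=
    Localization.localRingHom (P.comap ν) P (ν : R →+* S) hc
  have hx0 : φ (algebraMap R _ x) = 0 := by
    have hnil : IsNilpotent (algebraMap R (Localization.AtPrime (P.comap ν)) x) := by
      refine ⟨m, ?_⟩
      rw [← map_pow, IsLocalization.map_eq_zero_iff (P.comap ν).primeCompl]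
      exact ⟨⟨u', hu'P⟩, hν (h0.trans (map_zero ν).symm)⟩
    rw [IsReduced.eq_zero _ hnil, map_zero]
  rw [IsLocalization.mk'_eq_zero_iff]
  rw [Localization.localRingHom_to_map, IsLocalization.map_eq_zero_iff P.primeCompl] at hx0
  obtain ⟨w, hw⟩ := hx0
  refine ⟨w * ⟨ν d, fun h1 ↦ ‹P.IsPrime›.ne_top (Ideal.eq_top_of_isUnit_mem _ h1 hd)⟩, ?_⟩
  show (w : S) * ν d * y = 0
  rw [mul_assoc, mul_comm (ν d), ← hx]
  exact hw

/-- Geometric reducedness at a prime of a flat algebra of finite type over a Noetherian ring passes to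
the generisations of the prime. -/
theorem ringGR_of_le {A B : Type u} [CommRing A] [IsNoetherianRing A] [CommRing B] [Algebra A B]
    [Algebra.FiniteType A B] [Module.Flat A B] {Q₁ Q : Ideal B} [Q.IsPrime] (hle : Q₁ ≤ Q) (h : RingGR A Q) :
    RingGR A Q₁ := by
  intro K _ _ P₁ _ hP₁
  classical
  have : IsNoetherianRing B := Algebra.FiniteType.isNoetherianRing A B
  refine isReduced_of_forall_fg P₁ fun K₀ _ _ ψ t ht htop ↦ ?_
  let P₀ := P₁.comap (Algebra.TensorProduct.map (AlgHom.id A B) ψ)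
  have hP₀Q : P₀.comap (algebraMap B (B ⊗[A] K₀)) = Q₁ := by
    rw [← hP₁]
    refine (Ideal.comap_comap _ (Algebra.TensorProduct.map (AlgHom.id A B) ψ).toRingHom).trans ?_
    congr 1
    refine RingHom.ext fun x ↦ ?_
    show Algebra.TensorProduct.map (AlgHom.id A B) ψ (x ⊗ₜ[A] (1 : K₀)) = x ⊗ₜ[A] (1 : K)
    rw [Algebra.TensorProduct.map_tmul, map_one]; rfl
  show _root_.IsReduced (Localization.AtPrime P₀)
  by_cases heq : Q₁ = Q
  · exact h K₀ P₀ (hP₀Q.trans heq)
  let L := P₀.ResidueField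
  let θ : B ⊗[A] K₀ →+* L := algebraMap _ _
  have hθ : ∀ x, θ x = 0 ↔ x ∈ P₀ := fun x ↦ Ideal.algebraMap_residueField_eq_zero
  -- the local ring of the closure of `Q₁` at `Q`
  have : Q₁.IsPrime := hP₀Q ▸ inferInstance
  let m := Ideal.Quotient.mk Q₁
  have hQ' : (Q.map m).IsPrime := Ideal.map_isPrime_of_surjective Ideal.Quotient.mk_surjective (by rwa [Ideal.mk_ker])
  have hQm : (Q.map m).comap m = Q := by
    rw [Ideal.comap_map_of_surjective m Ideal.Quotient.mk_surjective, ← RingHom.ker_eq_comap_bot, Ideal.mk_ker]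
    exact sup_eq_left.mpr hle
  let R := Localization.AtPrime (Q.map m)
  have : IsNoetherianRing R := IsLocalization.isNoetherianRing (Q.map m).primeCompl R inferInstance
  have hρ₀ : ∀ b ∈ Q₁, θ (algebraMap B (B ⊗[A] K₀) b) = 0 := fun b hb ↦ (hθ _).mpr (hP₀Q.ge hb)
  let ρ₁ : B ⧸ Q₁ →+* L := Ideal.Quotient.lift Q₁ (θ.comp (algebraMap B (B ⊗[A] K₀))) hρ₀
  have hρ₁ : Function.Injective ρ₁ := by
    refine (injective_iff_map_eq_zero _).mpr fun x hx ↦ ?_
    obtain ⟨b, rfl⟩ := Ideal.Quotient.mk_surjective x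
    exact Ideal.Quotient.eq_zero_iff_mem.mpr (hP₀Q.le ((hθ _).mp hx))
  have hρu : ∀ s : (Q.map m).primeCompl, IsUnit (ρ₁ s) := fun s ↦ isUnit_iff_ne_zero.mpr fun h0 ↦
    s.2 (by rw [(map_eq_zero_iff ρ₁ hρ₁).mp h0]; exact zero_mem _)
  let ρ : R →+* L := IsLocalization.lift hρu
  letI : Algebra R L := ρ.toAlgebra
  have hρ : ∀ x, ρ (algebraMap (B ⧸ Q₁) R x) = ρ₁ x := IsLocalization.lift_eq hρu
  haveI : FaithfulSMul R L := (faithfulSMul_iff_algebraMap_injective R L).mpr
    ((IsLocalization.lift_injective_iff hρu).mpr fun x y ↦ by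
      rw [IsLocalization.injective R (Q.map m).primeCompl_le_nonZeroDivisors |>.eq_iff, hρ₁.eq_iff])
  have hR : ¬ IsField R := fun hF ↦ heq (le_antisymm hle fun b hb ↦ by
    have h1 : algebraMap (B ⧸ Q₁) R (m b) ∈ maximalIdeal R :=
      (IsLocalization.AtPrime.to_map_mem_maximal_iff R (Q.map m) (m b)).mpr (Ideal.mem_map_of_mem m hb)
    rw [IsLocalRing.isField_iff_maximalIdeal_eq.mp hF, Ideal.mem_bot,
      IsLocalization.to_map_eq_zero_iff R (Q.map m).primeCompl_le_nonZeroDivisors] at h1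
    exact Ideal.Quotient.eq_zero_iff_mem.mp h1)
  let s : Set L := (fun x ↦ θ ((1 : B) ⊗ₜ[A] x)) '' t
  have hs : Subfield.closure (Set.range (algebraMap R L) ∪ s) = ⊤ := by
    refine top_le_iff.mp fun z _ ↦ ?_
    set F := Subfield.closure (Set.range (algebraMap R L) ∪ s)
    have hB : ∀ b : B, θ (b ⊗ₜ[A] (1 : K₀)) ∈ F := fun b ↦
      Subfield.subset_closure (.inl ⟨algebraMap (B ⧸ Q₁) R (m b), hρ _⟩)
    have hK : ∀ c : K₀, θ ((1 : B) ⊗ₜ[A] c) ∈ F := by
      let j : K₀ →+* L := θ.comp (Algebra.TensorProduct.includeRight (R := A) (A := B) (B := K₀)).toRingHom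
      intro c
      have hle' : Subfield.closure (Set.range (algebraMap A K₀) ∪ t) ≤ F.comap j := by
        refine Subfield.closure_le.mpr ?_
        rintro c (⟨a, rfl⟩ | hc)
        · show θ ((1 : B) ⊗ₜ[A] algebraMap A K₀ a) ∈ F
          rw [Algebra.algebraMap_eq_smul_one (A := K₀) a, ← TensorProduct.smul_tmul]
          exact hB _
        · exact Subfield.subset_closure (.inr ⟨c, hc, rfl⟩)
      rw [htop] at hle'
      exact hle' (Subfield.mem_top c)
    have hall : ∀ w : B ⊗[A] K₀, θ w ∈ F := by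
      intro w
      induction w using TensorProduct.induction_on with
      | zero => rw [map_zero]; exact F.zero_mem
      | tmul b c =>
        rw [show b ⊗ₜ[A] c = (b ⊗ₜ[A] (1 : K₀)) * ((1 : B) ⊗ₜ[A] c) by
          rw [Algebra.TensorProduct.tmul_mul_tmul, mul_one, one_mul], map_mul]
        exact F.mul_mem (hB b) (hK c)
      | add x y hx hy => rw [map_add]; exact F.add_mem hx hy
    obtain ⟨x, y, -, rfl⟩ := IsFractionRing.div_surjective ((B ⊗[A] K₀) ⧸ P₀) (K := L) z
    obtain ⟨x, rfl⟩ := Ideal.Quotient.mk_surjective x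
    obtain ⟨y, rfl⟩ := Ideal.Quotient.mk_surjective y
    exact F.div_mem (hall x) (hall y)
  obtain ⟨W, hW, hWR, hWm⟩ := DvrDom.exists_dvr_dominating_of_fg (A := R) hR L s (ht.image _) hs
  -- the induced valuation ring on the smaller field
  let j : K₀ →+* L := θ.comp (Algebra.TensorProduct.includeRight (R := A) (A := B) (B := K₀)).toRingHom
  let V := W.comap j
  have := isPrincipalIdealRing_comap j W
  have hAB : ∀ a : A, j (algebraMap A K₀ a) = θ (algebraMap A B a ⊗ₜ[A] (1 : K₀)) := fun a ↦ by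
    show θ ((1 : B) ⊗ₜ[A] algebraMap A K₀ a) = _
    rw [Algebra.algebraMap_eq_smul_one (A := K₀) a, Algebra.algebraMap_eq_smul_one (A := B) a, TensorProduct.smul_tmul]
  have hBW : ∀ b : B, θ (b ⊗ₜ[A] (1 : K₀)) ∈ W := fun b ↦ by
    have h1 := hWR (algebraMap (B ⧸ Q₁) R (m b))
    rw [show algebraMap R L (algebraMap (B ⧸ Q₁) R (m b)) = θ (b ⊗ₜ[A] (1 : K₀)) from hρ _] at h1
    exact h1
  letI : Algebra A V := ((algebraMap A K₀).codRestrict V.toSubring fun a ↦ by
    show j (algebraMap A K₀ a) ∈ W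
    rw [hAB]; exact hBW _).toAlgebra
  let iV : V →ₐ[A] K₀ := { V.subtype with commutes' := fun _ ↦ rfl }
  let ν := Algebra.TensorProduct.map (AlgHom.id A B) iV
  have hνW : ∀ x, θ (ν x) ∈ W.toSubring := by
    intro x
    induction x using TensorProduct.induction_on with
    | zero => rw [map_zero, map_zero]; exact W.zero_mem
    | tmul b c =>
      show θ (b ⊗ₜ[A] (c : K₀)) ∈ W
      rw [show b ⊗ₜ[A] (c : K₀) = (b ⊗ₜ[A] (1 : K₀)) * ((1 : B) ⊗ₜ[A] (c : K₀)) by
          rw [Algebra.TensorProduct.tmul_mul_tmul, mul_one, one_mul], map_mul]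
      exact W.toSubring.mul_mem (hBW b) c.2
    | add x y hx hy => rw [map_add, map_add]; exact W.toSubring.add_mem hx hy
  let χ : B ⊗[A] V →+* W := (θ.comp ν.toRingHom).codRestrict W.toSubring hνW
  let QV : Ideal (B ⊗[A] V) := (maximalIdeal W).comap χ
  have : QV.IsPrime := Ideal.IsPrime.comap _
  have : Algebra.FiniteType V (V ⊗[A] B) := inferInstance
  have : IsNoetherianRing (V ⊗[A] B) := Algebra.FiniteType.isNoetherianRing V (V ⊗[A] B)
  have : IsNoetherianRing (B ⊗[A] V) := isNoetherianRing_of_ringEquiv (V ⊗[A] B) (Algebra.TensorProduct.comm A V B).toRingEquiv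
  -- reducedness at `QV`
  have hred : _root_.IsReduced (Localization.AtPrime QV) := by
    obtain ⟨π, hπ⟩ := (IsPrincipalIdealRing.principal (maximalIdeal V)).principal
    let T := Localization.AtPrime QV
    have : IsNoetherianRing T := IsLocalization.isNoetherianRing QV.primeCompl T inferInstance
    let e := (1 : B) ⊗ₜ[A] π
    have heQ : e ∈ QV := by
      show χ e ∈ maximalIdeal W
      rw [mem_maximalIdeal, mem_nonunits_iff]
      intro hu
      have hπm : π ∈ maximalIdeal V := hπ ▸ Submodule.mem_span_singleton_self π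
      apply (mem_maximalIdeal π).mp hπm
      obtain ⟨w, hw⟩ := isUnit_iff_exists_inv.mp hu
      have hw' : j (π : K₀) * (w : L) = 1 := congrArg Subtype.val hw
      have hπ0 : (π : K₀) ≠ 0 := fun h0 ↦ by simp [h0] at hw'
      have hinv : (π : K₀)⁻¹ ∈ V := by
        show j ((π : K₀)⁻¹) ∈ W
        rw [map_inv₀, ← eq_inv_of_mul_eq_one_right hw']
        exact w.2
      exact isUnit_iff_exists_inv.mpr ⟨⟨_, hinv⟩, Subtype.ext (mul_inv_cancel₀ hπ0)⟩
    refine isReduced_of_quotient (algebraMap _ T e)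
      ((IsLocalization.AtPrime.to_map_mem_maximal_iff T QV e).mpr heQ) ?_ ?_
    · by_cases hπ0 : π = 0
      · left; rw [show e = 0 by simp [e, hπ0], map_zero]
      right
      have h1 : Function.Injective fun x : V ⊗[A] B ↦ ((π ⊗ₜ[A] (1 : B)) * x) := by
        have h2 : Function.Injective (LinearMap.mulLeft A π) := fun x y hxy ↦ mul_left_cancel₀ hπ0 hxy
        have h3 := Module.Flat.rTensor_preserves_injective_linearMap (M := B) _ h2
        refine fun x y hxy ↦ h3 ?_
        have h4 : ∀ z, (LinearMap.mulLeft A π).rTensor B z = (π ⊗ₜ[A] (1 : B)) * z := fun z ↦ by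
          induction z using TensorProduct.induction_on with
          | zero => simp
          | tmul p q => rw [LinearMap.rTensor_tmul, Algebra.TensorProduct.tmul_mul_tmul, one_mul]; rfl
          | add p q hp hq => rw [map_add, hp, hq, mul_add]
        rw [h4, h4]; exact hxy
      have h5 : IsSMulRegular (B ⊗[A] V) e := by
        intro x y hxy
        apply (Algebra.TensorProduct.comm A B V).injective
        refine h1 ?_
        show (π ⊗ₜ[A] (1 : B)) * _ = (π ⊗ₜ[A] (1 : B)) * _
        rw [show π ⊗ₜ[A] (1 : B) = Algebra.TensorProduct.comm A B V e from rfl, ← map_mul, ← map_mul]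
        exact congrArg _ hxy
      exact IsSMulRegular.of_flat (S := T) h5
    · -- the quotient is a localisation of the special fibre
      let k := ResidueField V
      let πk : V →ₐ[A] k := { residue V with commutes' := fun _ ↦ rfl }
      let Ψ := Algebra.TensorProduct.map (AlgHom.id A B) πk
      have hker : RingHom.ker Ψ = Ideal.span ({e} : Set (B ⊗[A] V)) := by
        rw [show RingHom.ker Ψ = (RingHom.ker πk).map (Algebra.TensorProduct.includeRight (R := A) (A := B) (B := V)) from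
          Algebra.TensorProduct.lTensor_ker πk residue_surjective, show RingHom.ker πk = maximalIdeal V from Ideal.mk_ker,
          hπ, Ideal.submodule_span_eq, Ideal.map_span, Set.image_singleton]
        rfl
      have hΨ : Function.Surjective Ψ := TensorProduct.map_surjective Function.surjective_id residue_surjective
      have hPk : (QV.map Ψ).IsPrime := Ideal.map_isPrime_of_surjective hΨ (by
        rw [hker, Ideal.span_le, Set.singleton_subset_iff]; exact heQ)
      have hPQ : (QV.map Ψ).comap (algebraMap B (B ⊗[A] k)) = Q := by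
        have h1 : (algebraMap B (B ⊗[A] k)) = Ψ.toRingHom.comp (algebraMap B (B ⊗[A] V)) := by
          refine RingHom.ext fun b ↦ ?_
          show b ⊗ₜ[A] (1 : k) = b ⊗ₜ[A] πk 1
          rw [map_one]
        rw [h1, ← Ideal.comap_comap]
        have h2 : (QV.map Ψ).comap Ψ.toRingHom = QV := by
          refine (Ideal.comap_map_of_surjective Ψ.toRingHom hΨ QV).trans (sup_eq_left.mpr ?_)
          rw [← RingHom.ker_eq_comap_bot]
          exact hker.le.trans (Ideal.span_le.mpr (Set.singleton_subset_iff.mpr heQ))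
        rw [h2]
        ext b
        have hval : ((χ (b ⊗ₜ[A] (1 : V)) : W) : L) = algebraMap R L (algebraMap (B ⧸ Q₁) R (m b)) := by
          show θ (ν (b ⊗ₜ[A] (1 : V))) = ρ (algebraMap (B ⧸ Q₁) R (m b))
          rw [hρ]; rfl
        show χ (b ⊗ₜ[A] (1 : V)) ∈ maximalIdeal W ↔ b ∈ Q
        rw [ValuationSubring.valuation_lt_one_iff W (χ (b ⊗ₜ[A] (1 : V))), hval]
        refine Iff.trans ?_ (SetLike.ext_iff.mp hQm b)
        rw [Ideal.mem_comap]
        refine ⟨fun hlt ↦ by_contra fun hb ↦ ?_, fun hb ↦ hWm _ ((IsLocalization.AtPrime.to_map_mem_maximal_iff R (Q.map m) _).mpr hb)⟩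
        obtain ⟨w, hw⟩ := isUnit_iff_exists_inv.mp (IsLocalization.map_units R (⟨m b, hb⟩ : (Q.map m).primeCompl))
        have h3 : W.valuation (algebraMap R L (algebraMap (B ⧸ Q₁) R (m b))) * W.valuation (algebraMap R L w) = 1 := by
          rw [← map_mul, ← map_mul, hw, map_one, map_one]
        have h4 := W.valuation_le_one (⟨_, hWR w⟩ : W)
        exact absurd h3 (ne_of_lt (lt_of_le_of_lt (mul_le_of_le_one_right' h4) hlt))
      have := h k (QV.map Ψ) hPQ
      let Ψ' : T →+* Localization.AtPrime (QV.map Ψ) := Localization.localRingHom QV (QV.map Ψ) Ψ.toRingHom (by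
        refine ((Ideal.comap_map_of_surjective Ψ.toRingHom hΨ QV).trans (sup_eq_left.mpr ?_)).symm
        rw [← RingHom.ker_eq_comap_bot]
        exact hker.le.trans (Ideal.span_le.mpr (Set.singleton_subset_iff.mpr heQ)))
      refine isReduced_of_injective (Ideal.Quotient.lift _ Ψ' ?_) ?_
      · intro x hx
        obtain ⟨y, rfl⟩ := Ideal.mem_span_singleton.mp hx
        rw [map_mul, Localization.localRingHom_to_map, show Ψ.toRingHom e = 0 from hker.ge (Ideal.subset_span rfl),
          map_zero, zero_mul]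
      · refine (injective_iff_map_eq_zero _).mpr fun x hx ↦ ?_
        obtain ⟨x, rfl⟩ := Ideal.Quotient.mk_surjective x
        obtain ⟨x, r, rfl⟩ := IsLocalization.exists_mk'_eq QV.primeCompl x
        rw [Ideal.Quotient.lift_mk, Localization.localRingHom_mk', IsLocalization.mk'_eq_zero_iff] at hx
        obtain ⟨v, hv⟩ := hx
        obtain ⟨v', hv'⟩ := hΨ v
        have hv'Q : v' ∉ QV := fun hmem ↦ v.2 (hv' ▸ Ideal.mem_map_of_mem _ hmem)
        have h6 : v' * x ∈ Ideal.span ({e} : Set (B ⊗[A] V)) := by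
          rw [← hker, RingHom.mem_ker, map_mul, hv']; exact hv
        obtain ⟨c, hc⟩ := Ideal.mem_span_singleton.mp h6
        rw [Ideal.Quotient.eq_zero_iff_mem]
        refine (Ideal.unit_mul_mem_iff_mem _ (IsLocalization.map_units T (⟨v', hv'Q⟩ : QV.primeCompl))).mp ?_
        rw [IsLocalization.mul_mk'_eq_mk'_of_mul, show (⟨v', hv'Q⟩ : QV.primeCompl).1 * x = e * c from hc,
          ← IsLocalization.mul_mk'_eq_mk'_of_mul]
        exact Ideal.mul_mem_right _ _ (Ideal.subset_span rfl)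
  -- back to the generic point
  have hνP : P₀.comap ν ≤ QV := by
    intro x hx
    show χ x ∈ maximalIdeal W
    rw [show χ x = 0 from Subtype.ext ((hθ _).mpr hx)]
    exact zero_mem _
  have : _root_.IsReduced (Localization.AtPrime (P₀.comap ν)) := isReduced_atPrime_of_le hνP
  -- the localisation of the generic fibre
  refine isReduced_of_surjective_units ν (Module.Flat.lTensor_preserves_injective_linearMap iV.toLinearMap
    Subtype.val_injective) P₀ fun y ↦ ?_
  obtain ⟨S, hS⟩ := TensorProduct.exists_finset y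
  have hden : ∀ c : K₀, ∃ d : V, (d : K₀) ≠ 0 ∧ c * d ∈ V := fun c ↦ by
    rcases V.mem_or_inv_mem c with hc | hc
    · exact ⟨1, one_ne_zero, by simpa using hc⟩
    · by_cases hc0 : c = 0
      · exact ⟨1, one_ne_zero, by simp [hc0]⟩
      · exact ⟨⟨c⁻¹, hc⟩, inv_ne_zero hc0, by simp [mul_inv_cancel₀ hc0, V.one_mem]⟩
  choose d hd0 hd using hden
  let D : V := ∏ p ∈ S, d p.2
  have hDval : (D : K₀) = ∏ p ∈ S, (d p.2 : K₀) := map_prod V.subtype _ _
  have hD : ∀ p ∈ S, p.2 * (D : K₀) ∈ V := fun p hp ↦ by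
    rw [hDval, ← Finset.mul_prod_erase S _ hp, ← mul_assoc]
    exact V.toSubring.mul_mem (hd p.2) (V.toSubring.prod_mem fun q _ ↦ (d q.2).2)
  have hD0 : (D : K₀) ≠ 0 := by
    rw [hDval]; exact Finset.prod_ne_zero_iff.mpr fun q _ ↦ hd0 q.2
  refine ⟨∑ p ∈ S.attach, p.1.1 ⊗ₜ[A] (⟨_, hD p.1 p.2⟩ : V), (1 : B) ⊗ₜ[A] D, ?_, ?_⟩
  · show IsUnit ((1 : B) ⊗ₜ[A] (D : K₀))
    exact (Ne.isUnit hD0).map (Algebra.TensorProduct.includeRight (R := A) (A := B) (B := K₀))
  · rw [map_sum, hS, Finset.sum_mul, ← Finset.sum_attach S]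
    refine Finset.sum_congr rfl fun p _ ↦ ?_
    show p.1.1 ⊗ₜ[A] (p.1.2 * (D : K₀)) = p.1.1 ⊗ₜ[A] p.1.2 * ((1 : B) ⊗ₜ[A] (D : K₀))
    rw [Algebra.TensorProduct.tmul_mul_tmul, mul_one]

end Groth.Agent.GeomRedAt
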