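import Groth.Agent.GeomRedAt.Ring
import Groth.Agent.GeomRedSpread.NearPoint
import Groth.Prelude.Def_FDesc

/-!
# Geometric reducedness of the fibre at a point
-/

set_option autoImplicit false
set_option linter.style.haveILetI false
set_option linter.unusedSectionVars false

universe u

open CategoryTheory AlgebraicGeometry Limits TopologicalSpace TensorProduct

namespace Groth.Agent.GeomRedAt

variable {X Y : Scheme.{u}}

/-- The fibre is geometrically reduced at the point. -/
def GR (f : X ⟶ Y) (x : X) : Prop :=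
  ∀ (K : Type u) [Field K] (v : Spec (CommRingCat.of K) ⟶ Y) (p : ↥(pullback f v)),
    pullback.fst f v p = x → _root_.IsReduced ((pullback f v).presheaf.stalk p)

/-- Local rings at corresponding points of an open immersion are reduced together. -/
theorem isReduced_stalk_openImmersion_iff {U Z : Scheme.{u}} (j : U ⟶ Z) [IsOpenImmersion j] (u : U) :
    _root_.IsReduced (Z.presheaf.stalk (j u)) ↔ _root_.IsReduced (U.presheaf.stalk u) := by
  have e := (asIso (j.stalkMap u)).commRingCatIsoToRingEquiv
  exact ⟨fun _ ↦ isReduced_of_injective e.symm.toRingHom e.symm.injective,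
    fun _ ↦ isReduced_of_injective e.toRingHom e.injective⟩

theorem isGeomReducedAt_iff (f : X ⟶ Y) (x : X) :
    FBase.IsGeomReducedAt (f.fiberToSpecResidueField (f.base x)) (f.asFiber x) ↔ GR f x := by
  constructor
  · intro h K _ v p hp
    obtain ⟨⟨y, φ⟩, hyφ⟩ : ∃ q, v = (Scheme.SpecToEquivOfField K Y).symm q :=
      ⟨Scheme.SpecToEquivOfField K Y v, (Equiv.symm_apply_apply _ _).symm⟩
    change v = Spec.map φ ≫ Y.fromSpecResidueField y at hyφ
    subst hyφ
    obtain rfl : f.base x = y := by
      rw [← hp, show f.base (pullback.fst f (Spec.map φ ≫ Y.fromSpecResidueField y) p) =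
        (pullback.fst f (Spec.map φ ≫ Y.fromSpecResidueField y) ≫ f) p from rfl, pullback.condition,
        Scheme.Hom.comp_apply, Scheme.Hom.comp_apply]
      exact Scheme.fromSpecResidueField_apply _ _
    letI : Algebra (Y.residueField (f.base x)) K := φ.hom.toAlgebra
    letI : Algebra (IsLocalRing.ResidueField (Y.presheaf.stalk (f.base x))) K := φ.hom.toAlgebra
    let e : FBase.bc (k := Y.residueField (f.base x)) (f.fiberToSpecResidueField (f.base x)) K ≅
        pullback f (Spec.map φ ≫ Y.fromSpecResidueField (f.base x)) :=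
      pullbackLeftPullbackSndIso f (Y.fromSpecResidueField (f.base x)) (Spec.map φ)
    have hc : FBase.bcπ (k := Y.residueField (f.base x)) (f.fiberToSpecResidueField (f.base x)) K ≫ f.fiberι (f.base x) =
        e.hom ≫ pullback.fst _ _ := (pullbackLeftPullbackSndIso_hom_fst _ _ _).symm
    have hep : e.hom (e.inv p) = p := by rw [← Scheme.Hom.comp_apply, e.inv_hom_id]; rfl
    have := h K (e.inv p) ((f.fiberι (f.base x)).isEmbedding.injective (by
      refine Eq.trans ?_ (f.fiberι_asFiber x).symm
      refine (congr($(hc).base (e.inv p)) : _).trans ?_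
      show (pullback.fst f (Spec.map φ ≫ Y.fromSpecResidueField (f.base x))) (e.hom (e.inv p)) = x
      rw [hep]; exact hp))
    rw [← hep]
    exact (isReduced_stalk_openImmersion_iff e.hom _).mpr this
  · intro h K iK iA x' hx'
    letI : Algebra (Y.residueField (f.base x)) K := iA
    let e : FBase.bc (k := Y.residueField (f.base x)) (f.fiberToSpecResidueField (f.base x)) K ≅
        pullback f (Spec.map (CommRingCat.ofHom (algebraMap (Y.residueField (f.base x)) K)) ≫ Y.fromSpecResidueField (f.base x)) :=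
      pullbackLeftPullbackSndIso f (Y.fromSpecResidueField (f.base x)) _
    have hc : FBase.bcπ (k := Y.residueField (f.base x)) (f.fiberToSpecResidueField (f.base x)) K ≫ f.fiberι (f.base x) =
        e.hom ≫ pullback.fst _ _ := (pullbackLeftPullbackSndIso_hom_fst _ _ _).symm
    refine (isReduced_stalk_openImmersion_iff e.hom x').mp (h K _ (e.hom x') ?_)
    refine (congr($(hc).base x') : _).symm.trans ?_
    exact (congrArg (f.fiberι (f.base x)) hx').trans (f.fiberι_asFiber x)

/-- Local rings descend reducedness along flat morphisms. -/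
theorem isReduced_stalk_of_flat {P Q : Scheme.{u}} (m : P ⟶ Q) [Flat m] (p : P)
    [_root_.IsReduced (P.presheaf.stalk p)] : _root_.IsReduced (Q.presheaf.stalk (m p)) := by
  algebraize [(m.stalkMap p).hom]
  have : Module.FaithfullyFlat (Q.presheaf.stalk (m p)) (P.presheaf.stalk p) :=
    @Module.FaithfullyFlat.of_flat_of_isLocalHom _ _ _ _ _ _ _
      (Flat.stalkMap m p) (m.toLRSHom.prop p)
  exact isReduced_of_injective (algebraMap (Q.presheaf.stalk (m p)) (P.presheaf.stalk p))
    (FaithfulSMul.algebraMap_injective _ _)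

theorem gr_baseChange_iff {X' Y' : Scheme.{u}} {f : X ⟶ Y} {f' : X' ⟶ Y'} {g' : X' ⟶ X} {g : Y' ⟶ Y}
    (hc : IsPullback g' f' f g) (x' : X') : GR f' x' ↔ GR f (g' x') := by
  constructor
  · intro h K _ v p hp
    obtain ⟨z, hz₁, hz₂⟩ := Scheme.Pullback.exists_preimage_pullback (f := pullback.fst f v) (g := g') p x' hp
    let Z := pullback (pullback.fst f v) g'
    let w := Z.fromSpecResidueField z
    let k : Spec (Z.residueField z) ⟶ Spec (CommRingCat.of K) := w ≫ pullback.fst _ _ ≫ pullback.snd f v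
    let v' : Spec (Z.residueField z) ⟶ Y' := w ≫ pullback.snd _ _ ≫ f'
    have hvk : v' ≫ g = k ≫ v := by
      simp only [v', k, Category.assoc]
      rw [← hc.w, ← pullback.condition (f := f) (g := v), ← pullback.condition_assoc]
    have hbig : IsPullback (pullback.fst f' v' ≫ g') (pullback.snd f' v') f (k ≫ v) := by
      rw [← hvk]
      exact ((IsPullback.of_hasPullback f' v').flip.paste_vert hc.flip).flip
    let m : pullback f' v' ⟶ pullback f v := pullback.lift (pullback.fst f' v' ≫ g') (pullback.snd f' v' ≫ k)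
      (by rw [Category.assoc]; exact hbig.w)
    have hm : IsPullback m (pullback.snd f' v') (pullback.snd f v) k :=
      IsPullback.of_right (by rw [pullback.lift_fst]; exact hbig) (pullback.lift_snd _ _ _) (IsPullback.of_hasPullback f v)
    have : Flat k := by
      obtain ⟨φ, hφ⟩ := Spec.map_surjective k
      rw [← hφ]
      exact (FlatMor.flat_surjective_spec_field_hom φ.hom).1
    have : Flat m := MorphismProperty.of_isPullback hm.flip ‹Flat k›
    let σ : Spec (Z.residueField z) ⟶ pullback f' v' := pullback.lift (w ≫ pullback.snd _ _) (𝟙 _)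
      (by rw [Category.id_comp, Category.assoc])
    have hσm : σ ≫ m = w ≫ pullback.fst _ _ := by
      refine pullback.hom_ext ?_ ?_
      · rw [Category.assoc, pullback.lift_fst, pullback.lift_fst_assoc, Category.assoc, Category.assoc,
          ← pullback.condition]
      · rw [Category.assoc, pullback.lift_snd, pullback.lift_snd_assoc, Category.id_comp, Category.assoc]
    let p' := σ (IsLocalRing.closedPoint (Z.residueField z))
    have hp' : pullback.fst f' v' p' = x' := by
      rw [← Scheme.Hom.comp_apply, pullback.lift_fst, Scheme.Hom.comp_apply, Scheme.fromSpecResidueField_apply]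
      exact hz₂
    have hmp : m p' = p := by
      rw [← Scheme.Hom.comp_apply, hσm, Scheme.Hom.comp_apply, Scheme.fromSpecResidueField_apply]
      exact hz₁
    have := h (Z.residueField z) v' p' hp'
    rw [← hmp]
    exact isReduced_stalk_of_flat m p'
  · intro h K _ v p hp
    let e : pullback f' v ≅ pullback f (v ≫ g) :=
      ((IsPullback.of_hasPullback f' v).flip.paste_vert hc.flip).flip.isoPullback
    refine (isReduced_stalk_openImmersion_iff e.hom p).mp (h K (v ≫ g) (e.hom p) ?_)
    rw [← Scheme.Hom.comp_apply, IsPullback.isoPullback_hom_fst, Scheme.Hom.comp_apply, hp]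

theorem gr_source_iff {U : Scheme.{u}} (f : X ⟶ Y) (j : U ⟶ X) [IsOpenImmersion j] (u : U) :
    GR (j ≫ f) u ↔ GR f (j u) := by
  have key : ∀ (K : Type u) [Field K] (v : Spec (CommRingCat.of K) ⟶ Y),
      IsPullback (pullback.map (j ≫ f) v f v j (𝟙 _) (𝟙 _) (by simp) (by simp)) (pullback.fst (j ≫ f) v)
        (pullback.fst f v) j := fun K _ v ↦
    (IsPullback.of_bot (by
      rw [pullback.lift_snd, Category.comp_id]
      exact IsPullback.of_hasPullback (j ≫ f) v) (by rw [pullback.lift_fst]) (IsPullback.of_hasPullback f v)).flip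
  constructor
  · intro h K _ v p hp
    obtain ⟨p', hp', hp''⟩ := Scheme.Pullback.exists_preimage_pullback (f := pullback.fst f v) (g := j) p u hp
    let e := (key K v).isoPullback
    let q := e.inv p'
    have hq : e.hom q = p' := by rw [← Scheme.Hom.comp_apply, e.inv_hom_id]; rfl
    let j' := pullback.map (j ≫ f) v f v j (𝟙 _) (𝟙 _) (by simp) (by simp)
    have : IsOpenImmersion j' := MorphismProperty.of_isPullback (key K v).flip ‹IsOpenImmersion j›
    have h1 : j' q = p := by
      rw [← hp', ← hq, ← Scheme.Hom.comp_apply e.hom, IsPullback.isoPullback_hom_fst]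
    have h2 : pullback.fst (j ≫ f) v q = u := by
      rw [← hp'', ← hq, ← Scheme.Hom.comp_apply e.hom, IsPullback.isoPullback_hom_snd]
    rw [← h1]
    exact (isReduced_stalk_openImmersion_iff j' q).mpr (h K v q h2)
  · intro h K _ v q hq
    let j' := pullback.map (j ≫ f) v f v j (𝟙 _) (𝟙 _) (by simp) (by simp)
    have : IsOpenImmersion j' := MorphismProperty.of_isPullback (key K v).flip ‹IsOpenImmersion j›
    refine (isReduced_stalk_openImmersion_iff j' q).mp (h K v (j' q) ?_)
    rw [← Scheme.Hom.comp_apply, (key K v).w, Scheme.Hom.comp_apply, hq]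

theorem gr_target_iff {V : Scheme.{u}} (f : X ⟶ V) (k : V ⟶ Y) [Mono k] (x : X) :
    GR (f ≫ k) x ↔ GR f x :=
  (gr_baseChange_iff (f := f ≫ k) (f' := f) (g' := 𝟙 X) (g := k)
    ((IsPullback.of_id_fst (f := f)).paste_vert (IsKernelPair.id_of_mono k) |> fun h ↦ by simpa using h) x).symm

/-- For affine schemes geometric reducedness at a point is read off the algebras. -/
theorem gr_spec_iff {A B : Type u} [CommRing A] [CommRing B] [Algebra A B] (q : PrimeSpectrum B) :
    GR (Spec.map (CommRingCat.ofHom (algebraMap A B))) q ↔ RingGR A q.asIdeal := by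
  have key : ∀ (k : Type u) [CommRing k] [Algebra A k] (s : PrimeSpectrum (B ⊗[A] k)),
      (_root_.IsReduced ((pullback (Spec.map (CommRingCat.ofHom (algebraMap A B))) (Spec.map (CommRingCat.ofHom (algebraMap A k)))).presheaf.stalk
        ((pullbackSpecIso A B k).inv s)) ↔ _root_.IsReduced (Localization.AtPrime s.asIdeal)) ∧
      pullback.fst (Spec.map (CommRingCat.ofHom (algebraMap A B))) (Spec.map (CommRingCat.ofHom (algebraMap A k)))
        ((pullbackSpecIso A B k).inv s) = PrimeSpectrum.comap (algebraMap B (B ⊗[A] k)) s := by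
    intro k _ _ s
    constructor
    · rw [isReduced_stalk_openImmersion_iff (pullbackSpecIso A B k).inv s]
      let e := (Spec.stalkIso (CommRingCat.of (B ⊗[A] k)) s).commRingCatIsoToRingEquiv
      exact ⟨fun _ ↦ isReduced_of_injective e.symm.toRingHom e.symm.injective,
        fun _ ↦ isReduced_of_injective e.toRingHom e.injective⟩
    · rw [← Scheme.Hom.comp_apply, pullbackSpecIso_inv_fst]
      rfl
  constructor
  · intro h k _ _ P _ hP
    obtain ⟨h1, h2⟩ := key k ⟨P, inferInstance⟩
    exact h1.mp (h k _ _ (h2.trans (PrimeSpectrum.ext hP)))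
  · intro h K _ v p hp
    obtain ⟨ψ, rfl⟩ := Spec.map_surjective v
    letI : Algebra A K := ψ.hom.toAlgebra
    obtain ⟨h1, h2⟩ := key K ((pullbackSpecIso A B K).hom p)
    have hp' : (pullbackSpecIso A B K).inv ((pullbackSpecIso A B K).hom p) = p := by
      rw [← Scheme.Hom.comp_apply, Iso.hom_inv_id]; rfl
    rw [hp'] at h1 h2
    exact h1.mpr (h K _ (congrArg PrimeSpectrum.asIdeal (h2.symm.trans hp)))

/-- Geometric reducedness of the fibre at a point passes to the generisations of the point. -/
theorem gr_of_specializes [IsLocallyNoetherian Y] (f : X ⟶ Y) [Flat f] [LocallyOfFiniteType f] {x₁ x : X}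
    (hs : x₁ ⤳ x) (h : GR f x) : GR f x₁ := by
  obtain ⟨_, ⟨V, hV, rfl⟩, hxV, -⟩ := Y.isBasis_affineOpens.exists_subset_of_mem_open
    (Set.mem_univ (f x)) isOpen_univ
  obtain ⟨_, ⟨U, hU, rfl⟩, hxU, hUV⟩ := X.isBasis_affineOpens.exists_subset_of_mem_open
    (show x ∈ (f ⁻¹ᵁ V).1 from hxV) (f ⁻¹ᵁ V).2
  have hx₁U : x₁ ∈ U := hs.mem_open U.2 hxU
  have : IsNoetherianRing Γ(Y, V) := IsLocallyNoetherian.component_noetherian ⟨V, hV⟩
  let φ := f.appLE V U hUV
  have hcomp : Spec.map φ ≫ hV.fromSpec = hU.fromSpec ≫ f := hV.SpecMap_appLE_fromSpec f hU hUV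
  letI : Algebra Γ(Y, V) Γ(X, U) := φ.hom.toAlgebra
  have : Module.Flat Γ(Y, V) Γ(X, U) := Flat.flat_appLE f hV hU hUV
  have : Algebra.FiniteType Γ(Y, V) Γ(X, U) := HasRingHomProperty.appLE @LocallyOfFiniteType f ‹_› ⟨V, hV⟩ ⟨U, hU⟩ hUV
  obtain ⟨q, hq⟩ : ∃ q, hU.fromSpec q = x := ⟨hU.primeIdealOf ⟨x, hxU⟩, hU.fromSpec_primeIdealOf ⟨x, hxU⟩⟩
  obtain ⟨q₁, hq₁⟩ : ∃ q, hU.fromSpec q = x₁ := ⟨hU.primeIdealOf ⟨x₁, hx₁U⟩, hU.fromSpec_primeIdealOf ⟨x₁, hx₁U⟩⟩
  have tr : ∀ q, GR f (hU.fromSpec q) ↔ RingGR Γ(Y, V) (q : PrimeSpectrum Γ(X, U)).asIdeal := fun q ↦ by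
    rw [← gr_source_iff, ← hcomp, gr_target_iff]
    exact gr_spec_iff q
  have hle : (q₁ : PrimeSpectrum Γ(X, U)).asIdeal ≤ (q : PrimeSpectrum Γ(X, U)).asIdeal :=
    (PrimeSpectrum.le_iff_specializes q₁ q).mpr
      (hU.fromSpec.isOpenEmbedding.isInducing.specializes_iff.mp (hq₁ ▸ hq ▸ hs))
  rw [← hq₁, tr]
  exact ringGR_of_le hle ((tr q).mp (hq.symm ▸ h))

end Groth.Agent.GeomRedAt
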